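import Groth.Agent.McCoy.Basic
import Groth.Prelude.Def_CAlgX
import Mathlib.LinearAlgebra.Matrix.Rank
import Mathlib.LinearAlgebra.Matrix.NonsingularInverse
import Mathlib.RingTheory.LocalRing.ResidueField.Basic
import Mathlib.LinearAlgebra.Dimension.Finite

/-!
# Exact complexes of finite free modules over a local ring of depth zero split
-/

set_option autoImplicit false

universe u v

open scoped Matrix
open IsLocalRing

namespace Groth.Agent.BEConv

section Minor

variable {R : Type u} [CommRing R] {S : Type v} [CommRing S] (φ : R →+* S)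

theorem det_map_submatrix {p q r : ℕ} (M : Matrix (Fin p) (Fin q) R) (f : Fin r → Fin p) (g : Fin r → Fin q) :
    ((M.map φ).submatrix f g).det = φ ((M.submatrix f g).det) := by
  rw [RingHom.map_det]; rfl

theorem minor_zero_of_factor {p q r s : ℕ} (U : Matrix (Fin p) (Fin r) R) (V : Matrix (Fin r) (Fin q) R)
    (h : r < s) (f : Fin s → Fin p) (g : Fin s → Fin q) : ((U * V).submatrix f g).det = 0 := by
  -- pad the inner dimension with zeros
  let e : Fin r → Fin s := Fin.castLE h.le
  let U' : Matrix (Fin s) (Fin s) R := fun i j => if hj : (j : ℕ) < r then U (f i) ⟨j, hj⟩ else 0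
  let V' : Matrix (Fin s) (Fin s) R := fun i j => if hi : (i : ℕ) < r then V ⟨i, hi⟩ (g j) else 0
  have hm : (U * V).submatrix f g = U' * V' := by
    ext i j
    simp only [Matrix.submatrix_apply, Matrix.mul_apply, U', V']
    refine Finset.sum_of_injOn e (Fin.castLE_injective _).injOn (by simp) (fun x _ hx => ?_) (fun x _ => ?_)
    · have : ¬ (x : ℕ) < r := fun hxr => hx ⟨⟨x, hxr⟩, Finset.mem_coe.2 (Finset.mem_univ _), Fin.ext rfl⟩
      simp [this]
    · simp [e, x.2]
  rw [hm, Matrix.det_mul, Matrix.det_eq_zero_of_column_eq_zero ⟨r, h⟩ fun i => by simp [U'], zero_mul]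

end Minor

section Field

variable {K : Type u} [Field K]

/-- A matrix over a field has independent columns spanning its image, and a nonzero minor of that size. -/
theorem exists_cols {p q : ℕ} (M : Matrix (Fin p) (Fin q) K) :
    ∃ g : Fin M.rank → Fin q, Function.Injective (M.submatrix id g).mulVecLin ∧
      LinearMap.range (M.submatrix id g).mulVecLin = LinearMap.range M.mulVecLin := by
  obtain ⟨f, hf1, hf2, hf3⟩ := Submodule.exists_fun_fin_finrank_span_eq K (Set.range M.col)
  have hr : M.rank = Module.finrank K (Submodule.span K (Set.range M.col)) := M.rank_eq_finrank_span_cols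
  choose g hg using hf1
  refine ⟨fun i => g (Fin.cast hr i), ?_, ?_⟩
  · rw [Matrix.coe_mulVecLin, Matrix.mulVec_injective_iff]
    have : (M.submatrix id fun i => g (Fin.cast hr i)).col = f ∘ Fin.cast hr := by
      funext i; exact hg _
    rw [this]
    exact hf3.comp _ (Fin.cast_injective _)
  · rw [Matrix.range_mulVecLin, Matrix.range_mulVecLin]
    have : Set.range (M.submatrix id fun i => g (Fin.cast hr i)).col = Set.range f := by
      ext x
      constructor
      · rintro ⟨i, rfl⟩; exact ⟨Fin.cast hr i, (hg _).symm⟩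
      · rintro ⟨i, rfl⟩; exact ⟨Fin.cast hr.symm i, hg i⟩
    rw [this, hf2]

theorem exists_minor {p q : ℕ} (M : Matrix (Fin p) (Fin q) K) :
    ∃ (f : Fin M.rank → Fin p) (g : Fin M.rank → Fin q), (M.submatrix f g).det ≠ 0 := by
  obtain ⟨g, hg, -⟩ := exists_cols M
  have h := (McCoy.injective_iff_rank _).1 hg
  have hb : CAlgX.minorIdeal (M.submatrix id g) M.rank ≠ ⊥ := by
    intro h0
    have h2 := h.2
    rw [CAlgX.detIdeal, h.1, h0, Submodule.annihilator_bot] at h2
    exact top_ne_bot h2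
  rw [CAlgX.minorIdeal, Ne, Ideal.span_eq_bot] at hb
  push Not at hb
  obtain ⟨x, ⟨⟨f, g'⟩, rfl⟩, hx⟩ := hb
  exact ⟨f, g ∘ g', hx⟩

end Field

variable {S : Type u} [CommRing S] [IsLocalRing S]

theorem exists_left_inverse {p q : ℕ} (W : Matrix (Fin p) (Fin q) S)
    (hW : Function.Injective (W.map (residue S)).mulVecLin) : ∃ L : Matrix (Fin q) (Fin p) S, L * W = 1 := by
  obtain ⟨l, hl⟩ := LinearMap.exists_leftInverse_of_injective _ (LinearMap.ker_eq_bot.2 hW)
  obtain ⟨L₀, hL₀⟩ : ∃ L₀ : Matrix (Fin q) (Fin p) S, L₀.map (residue S) = LinearMap.toMatrix' l :=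
    ⟨fun i j => Function.surjInv residue_surjective (LinearMap.toMatrix' l i j),
      Matrix.ext fun i j => Function.surjInv_eq residue_surjective _⟩
  have h1 : (L₀ * W).map (residue S) = 1 := by
    rw [Matrix.map_mul, hL₀]
    refine Matrix.toLin'.injective (LinearMap.ext fun x => ?_)
    rw [Matrix.toLin'_mul, Matrix.toLin'_toMatrix', Matrix.toLin'_one]
    exact DFunLike.congr_fun hl x
  have hu : IsUnit (L₀ * W).det := by
    rw [← residue_ne_zero_iff_isUnit, RingHom.map_det, RingHom.mapMatrix_apply, h1, Matrix.det_one]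
    exact one_ne_zero
  exact ⟨(L₀ * W)⁻¹ * L₀, by rw [Matrix.mul_assoc, Matrix.nonsing_inv_mul _ hu]⟩

theorem residue_mulVec {p q : ℕ} (M : Matrix (Fin p) (Fin q) S) (z : Fin q → S) :
    M.map (residue S) *ᵥ (residue S ∘ z) = residue S ∘ (M *ᵥ z) := by
  funext i
  exact (RingHom.map_mulVec (residue S) M z i).symm

/-- An idempotent factors through its residual rank. -/
theorem exists_factor_idem {q : ℕ} (Q : Matrix (Fin q) (Fin q) S) (hQ : Q * Q = Q) :
    ∃ (U : Matrix (Fin q) (Fin (Q.map (residue S)).rank) S) (V : Matrix (Fin (Q.map (residue S)).rank) (Fin q) S),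
      Q = U * V := by
  obtain ⟨g, hg, hgr⟩ := exists_cols (Q.map (residue S))
  let U := Q.submatrix id g
  obtain ⟨L, hL⟩ := exists_left_inverse U hg
  have hQU : Q * U = U := by
    have h : Q * U = (Q * Q).submatrix id g := by
      ext i j; simp [U, Matrix.mul_apply]
    rw [h, hQ]
  have hLQ : U * (L * Q) * U = U := by
    rw [Matrix.mul_assoc, Matrix.mul_assoc L, hQU, hL, Matrix.mul_one]
  refine ⟨U, L * Q, ?_⟩
  let D := Q - U * (L * Q)
  have hDQ : D * Q = D := by
    simp only [D, Matrix.sub_mul, hQ, Matrix.mul_assoc]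
  have hDU : D * U = 0 := by
    rw [Matrix.sub_mul, hQU, hLQ, sub_self]
  have hDD : D * D = D := by
    show D * (Q - U * (L * Q)) = D
    rw [Matrix.mul_sub, hDQ, ← Matrix.mul_assoc, hDU, Matrix.zero_mul, sub_zero]
  have hDres : D.map (residue S) = 0 := by
    refine Matrix.toLin'.injective (LinearMap.ext fun x => ?_)
    rw [map_zero, LinearMap.zero_apply, Matrix.toLin'_apply]
    obtain ⟨y, hy⟩ : Q.map (residue S) *ᵥ x ∈ LinearMap.range ((Q.map (residue S)).submatrix id g).mulVecLin :=
      hgr ▸ ⟨x, rfl⟩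
    calc D.map (residue S) *ᵥ x = D.map (residue S) *ᵥ (Q.map (residue S) *ᵥ x) := by
          rw [Matrix.mulVec_mulVec, ← Matrix.map_mul, hDQ]
      _ = (D * U).map (residue S) *ᵥ y := by
          rw [← hy, Matrix.map_mul, ← Matrix.mulVec_mulVec]; rfl
      _ = 0 := by rw [hDU, Matrix.map_zero _ (map_zero _), Matrix.zero_mulVec]
  have hu : IsUnit (1 - D).det := by
    rw [← residue_ne_zero_iff_isUnit, RingHom.map_det, map_sub, map_one, RingHom.mapMatrix_apply, hDres,
      sub_zero, Matrix.det_one]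
    exact one_ne_zero
  have hD0 : D = 0 := by
    have h : (1 - D) * D = 0 := by rw [Matrix.sub_mul, Matrix.one_mul, hDD, sub_self]
    calc D = (1 - D)⁻¹ * ((1 - D) * D) := by rw [← Matrix.mul_assoc, Matrix.nonsing_inv_mul _ hu, Matrix.one_mul]
      _ = 0 := by rw [h, Matrix.mul_zero]
  exact sub_eq_zero.1 hD0

section Complex

variable {n : ℕ → ℕ} (A : (i : ℕ) → Matrix (Fin (n i)) (Fin (n (i + 1))) S) {e i₀ : ℕ}

/-- Exactness in position `k + 1`. -/
def Exact₀ (k : ℕ) : Prop := ∀ z, A k *ᵥ z = 0 → ∃ v, z = A (k + 1) *ᵥ v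

/-- Exactness modulo the maximal ideal in position `k + 1`. -/
def ResExact (k : ℕ) : Prop :=
  ∀ z, (∀ i, ¬ IsUnit ((A k *ᵥ z) i)) → ∃ v, ∀ j, ¬ IsUnit ((z - A (k + 1) *ᵥ v) j)

theorem resExact_of_split {z₀ : S} (hz₀ : z₀ ≠ 0) (hm : ∀ a, ¬ IsUnit a → a * z₀ = 0) {k : ℕ}
    (hex : Exact₀ A k) {P : Matrix (Fin (n (k + 1 + 1))) (Fin (n (k + 1))) S}
    (hP : A (k + 1) * P * A (k + 1) = A (k + 1)) : ResExact A k := by
  intro z hz
  obtain ⟨v, hv⟩ := hex (z₀ • z) (by
    funext i
    rw [Matrix.mulVec_smul, Pi.smul_apply, smul_eq_mul, mul_comm]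
    exact hm _ (hz i))
  refine ⟨P *ᵥ z, fun j hj => hz₀ ?_⟩
  have h : z₀ • (z - A (k + 1) *ᵥ (P *ᵥ z)) = 0 := by
    rw [smul_sub, ← Matrix.mulVec_smul, ← Matrix.mulVec_smul, hv, Matrix.mulVec_mulVec, Matrix.mulVec_mulVec,
      hP, sub_self]
  have h' := congrFun h j
  simp only [Pi.smul_apply, smul_eq_mul, Pi.zero_apply] at h'
  exact hj.mul_left_eq_zero.1 (by simpa [mul_comm] using h')

theorem exists_gen_inv (hAA : ∀ i, A i * A (i + 1) = 0) {k : ℕ} (hres : ResExact A k)
    {P : Matrix (Fin (n (k + 1 + 1))) (Fin (n (k + 1))) S} (hP : A (k + 1) * P * A (k + 1) = A (k + 1)) :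
    ∃ Q : Matrix (Fin (n (k + 1))) (Fin (n k)) S, A k * Q * A k = A k := by
  let E := A (k + 1) * P
  let W : Matrix (Fin (n k + n (k + 1))) (Fin (n (k + 1))) S :=
    (Matrix.fromRows (A k) E).submatrix finSumFinEquiv.symm id
  have hinj : Function.Injective (W.map (residue S)).mulVecLin := by
    rw [← LinearMap.ker_eq_bot, LinearMap.ker_eq_bot']
    intro x hx
    obtain ⟨z, rfl⟩ : ∃ z, residue S ∘ z = x :=
      ⟨fun i => Function.surjInv residue_surjective (x i), funext fun i => Function.surjInv_eq residue_surjective _⟩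
    rw [Matrix.mulVecLin_apply, residue_mulVec] at hx
    have hW : ∀ i, residue S (Sum.elim (A k *ᵥ z) (E *ᵥ z) i) = 0 := fun i => by
      have h := congrFun hx (finSumFinEquiv i)
      rw [← Matrix.fromRows_mulVec]
      simpa [W, Matrix.mulVec, dotProduct] using h
    obtain ⟨v, hv⟩ := hres z fun i hi => (residue_ne_zero_iff_isUnit _).2 hi (hW (Sum.inl i))
    have h1 : residue S ∘ z = (A (k + 1)).map (residue S) *ᵥ (residue S ∘ v) := by
      rw [residue_mulVec]
      funext j
      refine sub_eq_zero.1 ?_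
      show residue S (z j) - residue S ((A (k + 1) *ᵥ v) j) = 0
      rw [← map_sub]
      by_contra h
      exact hv j ((residue_ne_zero_iff_isUnit _).1 h)
    have h2 : residue S ∘ (E *ᵥ z) = 0 := funext fun j => hW (Sum.inr j)
    rw [h1, ← h2, ← residue_mulVec, h1, Matrix.mulVec_mulVec, ← Matrix.map_mul, hP]
  obtain ⟨L, hL⟩ := exists_left_inverse W hinj
  let L' : Matrix (Fin (n (k + 1))) (Fin (n k) ⊕ Fin (n (k + 1))) S := L.submatrix id finSumFinEquiv
  have hL' : L'.toCols₁ * A k + L'.toCols₂ * E = 1 := by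
    rw [← Matrix.fromCols_mul_fromRows, Matrix.fromCols_toCols]
    refine Eq.trans ?_ hL
    show _ = L * (Matrix.fromRows (A k) E).submatrix finSumFinEquiv.symm id
    have : L = L'.submatrix id finSumFinEquiv.symm := by ext i j; simp [L']
    rw [this, Matrix.submatrix_mul_equiv, Matrix.submatrix_id_id]
  refine ⟨L'.toCols₁, ?_⟩
  have hAE : A k * E = 0 := by rw [← Matrix.mul_assoc, hAA, Matrix.zero_mul]
  have hEE : E * E = E := by rw [← Matrix.mul_assoc, hP]
  have h := congrArg (fun M => A k * M * (1 - E)) hL'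
  simp only [Matrix.mul_one, Matrix.mul_add, Matrix.add_mul, Matrix.mul_sub, Matrix.mul_assoc, hEE, sub_self,
    Matrix.mul_zero, add_zero, hAE, sub_zero] at h
  rw [Matrix.mul_assoc]
  simpa only [zero_add, add_sub_cancel_right] using h

/-- Over a local ring of depth zero an exact complex splits. -/
theorem split_all {z₀ : S} (hz₀ : z₀ ≠ 0) (hm : ∀ a, ¬ IsUnit a → a * z₀ = 0)
    (hAA : ∀ i, A i * A (i + 1) = 0) (htop : A e = 0) (hex : ∀ k, i₀ ≤ k → k < e → Exact₀ A k) :
    ∀ k, i₀ ≤ k → k < e →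
      ResExact A k ∧ ∃ Q : Matrix (Fin (n (k + 1))) (Fin (n k)) S, A k * Q * A k = A k := by
  suffices ∀ d k, k + d = e → i₀ ≤ k →
      (k < e → ResExact A k) ∧ ∃ Q : Matrix (Fin (n (k + 1))) (Fin (n k)) S, A k * Q * A k = A k from
    fun k h1 h2 => ⟨(this (e - k) k (by omega) h1).1 h2, (this (e - k) k (by omega) h1).2⟩
  intro d
  induction d with
  | zero =>
    intro k hk _
    obtain rfl : k = e := hk
    exact ⟨fun h => absurd h (lt_irrefl _), 0, by rw [htop]; simp⟩
  | succ d ih =>
    intro k hk hi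
    obtain ⟨-, P, hP⟩ := ih (k + 1) (by omega) (by omega)
    have hres := resExact_of_split A hz₀ hm (hex k hi (by omega)) hP
    exact ⟨fun _ => hres, exists_gen_inv A hAA hres hP⟩

/-- The residual rank. -/
noncomputable def resRank (k : ℕ) : ℕ := ((A k).map (residue S)).rank

theorem resRank_add (hAA : ∀ i, A i * A (i + 1) = 0) {k : ℕ} (hres : ResExact A k) :
    resRank A k + resRank A (k + 1) = n (k + 1) := by
  have hker : LinearMap.ker ((A k).map (residue S)).mulVecLin =
      LinearMap.range ((A (k + 1)).map (residue S)).mulVecLin := by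
    ext x
    obtain ⟨z, rfl⟩ : ∃ z, residue S ∘ z = x :=
      ⟨fun i => Function.surjInv residue_surjective (x i), funext fun i => Function.surjInv_eq residue_surjective _⟩
    rw [LinearMap.mem_ker, Matrix.mulVecLin_apply, residue_mulVec, LinearMap.mem_range]
    constructor
    · intro hx
      obtain ⟨v, hv⟩ := hres z fun i hi => (residue_ne_zero_iff_isUnit _).2 hi (congrFun hx i)
      refine ⟨residue S ∘ v, ?_⟩
      rw [Matrix.mulVecLin_apply, residue_mulVec]
      funext j
      refine (sub_eq_zero.1 ?_).symm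
      show residue S (z j) - residue S ((A (k + 1) *ᵥ v) j) = 0
      rw [← map_sub]
      by_contra h
      exact hv j ((residue_ne_zero_iff_isUnit _).1 h)
    · rintro ⟨y, hy⟩
      rw [← residue_mulVec, ← hy, Matrix.mulVecLin_apply, Matrix.mulVec_mulVec, ← Matrix.map_mul, hAA,
        Matrix.map_zero _ (map_zero _), Matrix.zero_mulVec]
  have h := ((A k).map (residue S)).mulVecLin.finrank_range_add_finrank_ker
  rw [hker, Module.finrank_fin_fun] at h
  exact h

theorem exists_unit_minor (k : ℕ) :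
    ∃ (f : Fin (resRank A k) → Fin (n k)) (g : Fin (resRank A k) → Fin (n (k + 1))),
      IsUnit ((A k).submatrix f g).det := by
  obtain ⟨f, g, h⟩ := exists_minor ((A k).map (residue S))
  rw [det_map_submatrix, residue_ne_zero_iff_isUnit] at h
  exact ⟨f, g, h⟩

theorem minor_eq_zero_of_split {k s : ℕ} {Q : Matrix (Fin (n (k + 1))) (Fin (n k)) S}
    (hQ : A k * Q * A k = A k) (hs : resRank A k < s) (f : Fin s → Fin (n k)) (g : Fin s → Fin (n (k + 1))) :
    ((A k).submatrix f g).det = 0 := by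
  have hidem : Q * A k * (Q * A k) = Q * A k := by
    rw [Matrix.mul_assoc, ← Matrix.mul_assoc (A k), hQ]
  obtain ⟨U, V, hUV⟩ := exists_factor_idem (Q * A k) hidem
  have hle : ((Q * A k).map (residue S)).rank ≤ resRank A k := by
    rw [Matrix.map_mul]; exact Matrix.rank_mul_le_right _ _
  have hA : A k = A k * U * V := by
    rw [Matrix.mul_assoc, ← hUV, ← Matrix.mul_assoc, hQ]
  rw [hA]
  exact minor_zero_of_factor _ _ (lt_of_le_of_lt hle hs) f g

end Complex

end Groth.Agent.BEConv
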