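import Groth.Agent.BEConv.Local
import Groth.Agent.S19962
import Mathlib.RingTheory.Ideal.AssociatedPrime.Basic
import Mathlib.RingTheory.Ideal.AssociatedPrime.Finiteness
import Mathlib.RingTheory.Localization.AtPrime.Basic

/-!
# Exact complexes of finite free modules: ranks and depths of determinantal ideals
-/

set_option autoImplicit false

universe u

open scoped Matrix
open Groth.Agent.S19962 (RegMod regMod_bot regMod_of)

namespace Groth.Agent.BEConv

variable {R : Type u} [CommRing R] {n : ℕ → ℕ} {A : (i : ℕ) → Matrix (Fin (n i)) (Fin (n (i + 1))) R} {e : ℕ}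

/-- Exactness in position `k + 1` modulo an ideal. -/
def ExMod (A : (i : ℕ) → Matrix (Fin (n i)) (Fin (n (i + 1))) R) (I : Ideal R) (k : ℕ) : Prop :=
  ∀ z, (∀ i, (A k *ᵥ z) i ∈ I) → ∃ v, ∀ j, (z - A (k + 1) *ᵥ v) j ∈ I

theorem exMod_step (hAA : ∀ i, A i * A (i + 1) = 0) {I : Ideal R} {x : R} (hx : ∀ a, x * a ∈ I → a ∈ I) {k : ℕ}
    (h : ExMod A I k) (h' : ExMod A I (k + 1)) : ExMod A (I ⊔ Ideal.span {x}) (k + 1) := by
  intro z hz
  simp only [Submodule.mem_sup, Ideal.mem_span_singleton'] at hz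
  choose a ha b hb hab using hz
  choose w hw using hb
  have hzw : A (k + 1) *ᵥ z = a + x • w := funext fun i => by
    simp only [Pi.add_apply, Pi.smul_apply, smul_eq_mul]
    rw [← hab i, ← hw i, mul_comm]
  obtain ⟨v, hv⟩ := h w fun i => hx _ <| by
    have h0 : (A k *ᵥ (a + x • w)) i = 0 := by rw [← hzw, Matrix.mulVec_mulVec, hAA, Matrix.zero_mulVec]; rfl
    simp only [Matrix.mulVec_add, Matrix.mulVec_smul, Pi.add_apply, Pi.smul_apply, smul_eq_mul] at h0
    rw [show x * (A k *ᵥ w) i = -(A k *ᵥ a) i by linear_combination h0]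
    exact I.neg_mem (S19962.mulVec_mem _ ha i)
  obtain ⟨u, hu⟩ := h' (z - x • v) fun i => by
    have e1 : (A (k + 1) *ᵥ (z - x • v)) i = a i + x * (w - A (k + 1) *ᵥ v) i := by
      rw [Matrix.mulVec_sub, Matrix.mulVec_smul, hzw]
      simp only [Pi.sub_apply, Pi.add_apply, Pi.smul_apply, smul_eq_mul]; ring
    rw [e1]
    exact I.add_mem (ha i) (I.mul_mem_left _ (hv i))
  refine ⟨u, fun j => ?_⟩
  have e2 : (z - A (k + 1 + 1) *ᵥ u) j = (z - x • v - A (k + 1 + 1) *ᵥ u) j + v j * x := by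
    simp only [Pi.sub_apply, Pi.smul_apply, smul_eq_mul]; ring
  rw [e2]
  exact Ideal.add_mem _ (Ideal.mem_sup_left (hu j))
    (Ideal.mem_sup_right (Ideal.mul_mem_left _ _ (Ideal.mem_span_singleton_self x)))

theorem exMod_of_regMod (hAA : ∀ i, A i * A (i + 1) = 0) (rs : List R) :
    ∀ (I : Ideal R) (t : ℕ), RegMod I rs → (∀ k, t ≤ k → k < e → ExMod A I k) →
      ∀ k, t + rs.length ≤ k → k < e → ExMod A (I ⊔ Ideal.ofList rs) k := by
  induction rs with
  | nil => intro I t _ h k hk hke; simpa using h k (by simpa using hk) hke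
  | cons x xs ih =>
    intro I t hr h k hk hke
    rw [Ideal.ofList_cons, ← sup_assoc]
    refine ih (I ⊔ Ideal.span {x}) (t + 1) hr.2 (fun j hj hje => ?_) k (by simp only [List.length_cons] at hk; omega) hke
    obtain ⟨j₀, rfl⟩ : ∃ j₀, j = j₀ + 1 := ⟨j - 1, by omega⟩
    exact exMod_step hAA hr.1 (h j₀ (by omega) (by omega)) (h (j₀ + 1) (by omega) hje)

/-- The expected rank. -/
def expRank (n : ℕ → ℕ) (e k : ℕ) : ℤ := ∑ t ∈ Finset.Icc (k + 1) e, (-1 : ℤ) ^ (t - (k + 1)) * (n t : ℤ)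

theorem expRank_add (n : ℕ → ℕ) {e k : ℕ} (hk : k < e) : expRank n e k = n (k + 1) - expRank n e (k + 1) := by
  rw [expRank, ← Finset.add_sum_Ioc_eq_sum_Icc (by omega : k + 1 ≤ e), expRank, Nat.sub_self, pow_zero, one_mul,
    show Finset.Ioc (k + 1) e = Finset.Icc (k + 1 + 1) e by ext; simp, sub_eq_add_neg, ← Finset.sum_neg_distrib]
  refine congrArg ((n (k + 1) : ℤ) + ·) (Finset.sum_congr rfl fun t ht => ?_)
  rw [Finset.mem_Icc] at ht
  rw [show t - (k + 1) = t - (k + 1 + 1) + 1 by omega, pow_succ]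
  ring

section Loc

variable {Q : Type u} [CommRing Q] (φ : R →+* Q) (hφ : Function.Surjective φ)
  (p : Ideal Q) [p.IsPrime]

local notation "ι" => RingHom.comp (algebraMap Q (Localization.AtPrime p)) φ

include hφ in
theorem exact₀_loc {k : ℕ} (h : ExMod A (RingHom.ker φ) k) :
    Exact₀ (fun i => (A i).map ι) k := by
  intro z hz
  obtain ⟨s, hs⟩ := IsLocalization.exist_integer_multiples_of_finite p.primeCompl z
  choose w hw using hs
  have hw' : ∀ i, ι (Function.surjInv hφ (w i)) = algebraMap Q _ (s : Q) * z i := fun i => by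
    rw [RingHom.comp_apply, Function.surjInv_eq hφ, hw i, Algebra.smul_def]
  let w' := fun i => Function.surjInv hφ (w i)
  have h0 : ∀ i, ι ((A k *ᵥ w') i) = 0 := fun i => by
    rw [RingHom.map_mulVec]
    have : (ι ∘ w') = algebraMap Q (Localization.AtPrime p) (s : Q) • z := funext hw'
    rw [this, Matrix.mulVec_smul, hz, smul_zero]; rfl
  have h1 : ∀ i, ∃ t : p.primeCompl, (t : Q) * φ ((A k *ᵥ w') i) = 0 := fun i =>
    (IsLocalization.map_eq_zero_iff p.primeCompl _ _).1 (h0 i)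
  choose t ht using h1
  let T : Q := ∏ i, (t i : Q)
  have hT : T ∈ p.primeCompl := Submonoid.prod_mem _ fun i _ => (t i).2
  obtain ⟨T', hT'⟩ := hφ T
  obtain ⟨v, hv⟩ := h (T' • w') fun i => by
    rw [RingHom.mem_ker, Matrix.mulVec_smul, Pi.smul_apply, smul_eq_mul, map_mul, hT',
      show T = (t i : Q) * ∏ j ∈ Finset.univ.erase i, (t j : Q) from (Finset.mul_prod_erase _ _ (Finset.mem_univ i)).symm,
      mul_right_comm, ht i, zero_mul]
  have hu : IsUnit (algebraMap Q (Localization.AtPrime p) (T * (s : Q))) :=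
    IsLocalization.map_units _ (⟨T * (s : Q), mul_mem hT s.2⟩ : p.primeCompl)
  obtain ⟨c, hc⟩ := hu.exists_left_inv
  refine ⟨c • (ι ∘ v), funext fun j => ?_⟩
  have h2 := congrArg (algebraMap Q (Localization.AtPrime p)) (RingHom.mem_ker.1 (hv j))
  rw [← RingHom.comp_apply, map_zero, Pi.sub_apply, map_sub, RingHom.map_mulVec, Pi.smul_apply, smul_eq_mul, map_mul,
    sub_eq_zero, hw' j, show ι T' = algebraMap Q (Localization.AtPrime p) T from
    congrArg (algebraMap Q (Localization.AtPrime p)) hT', ← mul_assoc,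
    ← map_mul] at h2
  rw [Matrix.mulVec_smul, Pi.smul_apply, smul_eq_mul, ← h2, ← mul_assoc, hc, one_mul]

variable {p} in
theorem exists_socle {y : Q} (hy : ∀ a, a ∈ p ↔ a * y = 0) :
    algebraMap Q (Localization.AtPrime p) y ≠ 0 ∧
      ∀ a : Localization.AtPrime p, ¬ IsUnit a → a * algebraMap Q (Localization.AtPrime p) y = 0 := by
  refine ⟨fun h => ?_, fun a ha => ?_⟩
  · obtain ⟨⟨t, ht⟩, ht'⟩ := (IsLocalization.map_eq_zero_iff p.primeCompl _ _).1 h
    exact ht ((hy t).2 ht')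
  · obtain ⟨⟨b, s⟩, hb⟩ := IsLocalization.surj p.primeCompl a
    have hbp : b ∈ p := by
      by_contra hbp
      exact ha (isUnit_of_mul_isUnit_left (hb ▸ IsLocalization.map_units (Localization.AtPrime p) (⟨b, hbp⟩ : p.primeCompl)))
    refine (IsLocalization.map_units (Localization.AtPrime p) s).mul_left_eq_zero.1 ?_
    rw [mul_right_comm, hb, ← map_mul, (hy b).1 hbp, map_zero]

include hφ in
/-- At an associated prime the complex splits with the expected ranks. -/
theorem minors_loc (hAA : ∀ i, A i * A (i + 1) = 0) (htop : A e = 0) {y : Q} (hy : ∀ a, a ∈ p ↔ a * y = 0)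
    {i₀ : ℕ} (hex : ∀ k, i₀ ≤ k → k < e → ExMod A (RingHom.ker φ) k) (k : ℕ) (h₀ : i₀ ≤ k) (hk : k < e) :
    0 ≤ expRank n e k ∧
    (∃ (f : Fin (expRank n e k).toNat → Fin (n k)) (g : Fin (expRank n e k).toNat → Fin (n (k + 1))),
      φ ((A k).submatrix f g).det ∉ p) ∧
    ∀ (s : ℕ), (expRank n e k).toNat < s → ∀ (f : Fin s → Fin (n k)) (g : Fin s → Fin (n (k + 1))),
      algebraMap Q (Localization.AtPrime p) (φ ((A k).submatrix f g).det) = 0 := by
  let A' : (i : ℕ) → Matrix (Fin (n i)) (Fin (n (i + 1))) (Localization.AtPrime p) := fun i => (A i).map ι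
  have hAA' : ∀ i, A' i * A' (i + 1) = 0 := fun i => by
    rw [← Matrix.map_mul, hAA, Matrix.map_zero _ (map_zero _)]
  have htop' : A' e = 0 := by rw [← Matrix.map_zero _ (map_zero ι), ← htop]
  obtain ⟨hz₀, hm⟩ := exists_socle hy
  have hs := split_all A' hz₀ hm hAA' htop' fun k h1 h2 => exact₀_loc φ hφ p (hex k h1 h2)
  have hr : ∀ d k, k + d = e → i₀ ≤ k → (resRank A' k : ℤ) = expRank n e k := by
    intro d
    induction d with
    | zero =>
      intro k hk _
      obtain rfl : k = e := hk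
      simp [resRank, htop', expRank, Matrix.map_zero]
    | succ d ih =>
      intro k hk hi
      have h := resRank_add A' hAA' (hs k hi (by omega)).1
      have h' := ih (k + 1) (by omega) (by omega)
      rw [expRank_add n (by omega : k < e)]
      omega
  have hrk := hr (e - k) k (by omega) h₀
  refine ⟨hrk ▸ Int.natCast_nonneg _, ?_, fun s hs' f g => ?_⟩
  · rw [← hrk, Int.toNat_natCast]
    obtain ⟨f, g, hu⟩ := exists_unit_minor A' k
    refine ⟨f, g, fun hp => ?_⟩
    rw [det_map_submatrix, RingHom.comp_apply, IsLocalization.AtPrime.isUnit_to_map_iff _ p] at hu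
    exact hu hp
  · rw [← hrk, Int.toNat_natCast] at hs'
    obtain ⟨Q', hQ'⟩ := (hs k h₀ hk).2
    have := minor_eq_zero_of_split A' hQ' hs' f g
    rwa [det_map_submatrix, RingHom.comp_apply] at this

end Loc

variable [IsNoetherianRing R]

theorem matrixRank_eq_expRank [Nontrivial R] (hAA : ∀ i, A i * A (i + 1) = 0) (htop : A e = 0)
    (hex : ∀ k, k < e → ExMod A (⊥ : Ideal R) k) (k : ℕ) (hk : k < e) :
    (CAlgX.matrixRank (A k) : ℤ) = expRank n e k := by
  have hex' : ∀ j, 0 ≤ j → j < e → ExMod A (RingHom.ker (RingHom.id R)) j := fun j _ hj => by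
    rw [RingHom.ker_eq_bot_iff_eq_zero _ |>.2 fun _ h => h]
    exact hex j hj
  have main : ∀ (p : Ideal R) (_ : p.IsPrime) (y : R), (∀ a, a ∈ p ↔ a * y = 0) → _ := fun p hp y hy =>
    minors_loc (RingHom.id R) Function.surjective_id p hAA htop hy hex' k (Nat.zero_le k) hk
  have hann : ∀ (p : Ideal R), IsAssociatedPrime p R → ∃ y, ∀ a, a ∈ p ↔ a * y = 0 := fun p hp => by
    obtain ⟨_, y, hy⟩ := isAssociatedPrime_iff.1 hp
    exact ⟨y, fun a => by rw [hy, Submodule.mem_colon_singleton]; simp⟩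
  obtain ⟨p, hp⟩ := associatedPrimes.nonempty R R
  obtain ⟨y, hy⟩ := hann p hp
  obtain ⟨hnn, ⟨f, g, hfg⟩, -⟩ := main p hp.isPrime y hy
  have hne : CAlgX.minorIdeal (A k) (expRank n e k).toNat ≠ ⊥ := fun h0 => by
    have : ((A k).submatrix f g).det ∈ CAlgX.minorIdeal (A k) (expRank n e k).toNat :=
      Ideal.subset_span ⟨(f, g), rfl⟩
    rw [h0, Ideal.mem_bot] at this
    rw [this, map_zero] at hfg
    exact hfg p.zero_mem
  have hvan : ∀ s, CAlgX.minorIdeal (A k) s ≠ ⊥ → s ≤ (expRank n e k).toNat := fun s hs => by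
    by_contra hlt
    refine hs (Ideal.span_eq_bot.2 ?_)
    rintro x ⟨⟨f, g⟩, rfl⟩
    by_contra hx
    obtain ⟨p, hp, hle⟩ := exists_le_isAssociatedPrime_of_isNoetherianRing R _ hx
    obtain ⟨y, hy⟩ := hann p hp
    haveI := hp.isPrime
    have h0 := (main p hp.isPrime y hy).2.2 s (not_le.1 hlt) f g
    obtain ⟨⟨t, ht⟩, ht'⟩ := (IsLocalization.map_eq_zero_iff p.primeCompl _ _).1 h0
    exact ht (hle (Submodule.mem_colon_singleton.2 (by simpa using ht')))
  have : CAlgX.matrixRank (A k) = (expRank n e k).toNat :=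
    le_antisymm (csSup_le ⟨_, hne⟩ hvan) (le_csSup ⟨_, hvan⟩ hne)
  rw [this, Int.toNat_of_nonneg hnn]

theorem exists_regular_seq (hAA : ∀ i, A i * A (i + 1) = 0) (htop : A e = 0)
    (hex : ∀ k, k < e → ExMod A (⊥ : Ideal R) k) (k : ℕ) (hk : k < e)
    (hI : CAlgX.minorIdeal (A k) (expRank n e k).toNat ≠ ⊤) :
    ∃ rs : List R, rs.length = k + 1 ∧ (∀ r ∈ rs, r ∈ CAlgX.minorIdeal (A k) (expRank n e k).toNat) ∧
      RingTheory.Sequence.IsRegular R rs := by
  set I := CAlgX.minorIdeal (A k) (expRank n e k).toNat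
  suffices ∀ i, i ≤ k + 1 → ∃ rs : List R, rs.length = i ∧ (∀ r ∈ rs, r ∈ I) ∧
      RingTheory.Sequence.IsWeaklyRegular R rs by
    obtain ⟨rs, hlen, hmem, hreg⟩ := this (k + 1) le_rfl
    refine ⟨rs, hlen, hmem, ⟨hreg, fun h => hI ?_⟩⟩
    rw [smul_eq_mul, Ideal.mul_top] at h
    exact top_le_iff.1 (h.le.trans (Ideal.span_le.2 hmem))
  intro i
  induction i with
  | zero => exact fun _ => ⟨[], rfl, by simp, .nil R R⟩
  | succ i ih =>
    intro hi
    obtain ⟨rs, hlen, hmem, hreg⟩ := ih (by omega)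
    let J := Ideal.ofList rs
    have hexJ : ∀ j, i ≤ j → j < e → ExMod A (RingHom.ker (Ideal.Quotient.mk J)) j := fun j h1 h2 => by
      rw [Ideal.mk_ker]
      have := exMod_of_regMod hAA rs ⊥ 0 (regMod_bot hreg) (fun j _ h => hex j h) j (by omega) h2
      rwa [bot_sup_eq] at this
    obtain ⟨x, hxI, hx⟩ : ∃ x ∈ I, ∀ a, x * a ∈ J → a ∈ J := by
      by_contra! hne
      have hsub : (I : Set R) ⊆ ⋃ p ∈ (associatedPrimes.finite R (R ⧸ J)).toFinset, ((p : Ideal R) : Set R) := by
        intro x hx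
        obtain ⟨a, ha, ha'⟩ := hne x hx
        have h1 : x ∈ ⋃ p ∈ associatedPrimes R (R ⧸ J), (p : Set R) := by
          rw [biUnion_associatedPrimes_eq_zero_divisors]
          exact ⟨Ideal.Quotient.mk J a, by rwa [Ne, Ideal.Quotient.eq_zero_iff_mem],
            (Ideal.Quotient.eq_zero_iff_mem (I := J)).2 ha⟩
        simpa using h1
      obtain ⟨P, hP, hle⟩ := (Ideal.subset_union_prime ⊥ ⊥ (fun P hP _ _ =>
        IsAssociatedPrime.isPrime ((associatedPrimes.finite R (R ⧸ J)).mem_toFinset.1 hP))).1 hsub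
      obtain ⟨hPp, y, hy⟩ := isAssociatedPrime_iff.1 ((associatedPrimes.finite R (R ⧸ J)).mem_toFinset.1 hP)
      have hy' : ∀ r, r ∈ P ↔ Ideal.Quotient.mk J r * y = 0 := fun r => by
        rw [hy, Submodule.mem_colon_singleton, Submodule.mem_bot]
        rfl
      have hJP : J ≤ P := fun r hr => (hy' r).2 (by rw [Ideal.Quotient.eq_zero_iff_mem.2 hr, zero_mul])
      let p : Ideal (R ⧸ J) := P.map (Ideal.Quotient.mk J)
      haveI : p.IsPrime := Ideal.map_isPrime_of_surjective Ideal.Quotient.mk_surjective (by rwa [Ideal.mk_ker])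
      have hpP : ∀ r, Ideal.Quotient.mk J r ∈ p ↔ r ∈ P := fun r => by
        rw [← Ideal.mem_comap, Ideal.comap_map_of_surjective _ Ideal.Quotient.mk_surjective, ← RingHom.ker_eq_comap_bot,
          Ideal.mk_ker, sup_eq_left.2 hJP]
      have hyp : ∀ a, a ∈ p ↔ a * y = 0 := fun a => by
        obtain ⟨r, rfl⟩ := Ideal.Quotient.mk_surjective a
        rw [hpP, hy']
      obtain ⟨-, ⟨f, g, hfg⟩, -⟩ := minors_loc (Ideal.Quotient.mk J) Ideal.Quotient.mk_surjective p hAA htop hyp hexJ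
        k (by omega) hk
      exact hfg ((hpP _).2 (hle (Ideal.subset_span ⟨(f, g), rfl⟩)))
    refine ⟨rs ++ [x], by simp [hlen], fun r hr => ?_, ?_⟩
    · rcases List.mem_append.1 hr with h | h
      · exact hmem r h
      · obtain rfl := List.mem_singleton.1 h
        exact hxI
    · refine ⟨fun j hj => ?_⟩
      rw [List.length_append, List.length_singleton] at hj
      rw [isSMulRegular_quotient_iff_mem_of_smul_mem]
      rcases (Nat.lt_succ_iff_lt_or_eq.1 hj) with h | h
      · have h2 := hreg.regular_mod_prev j h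
        rw [isSMulRegular_quotient_iff_mem_of_smul_mem] at h2
        simpa only [List.getElem_append_left h, List.take_append_of_le_length h.le] using h2
      · subst h
        intro a ha
        simp only [List.getElem_concat_length, List.take_left', smul_eq_mul, Ideal.mul_top] at ha ⊢
        exact hx a ha

end Groth.Agent.BEConv
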